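import Cfsg.Agent.H600.KSix.Base
import Cfsg.Agent.StandardComponent.AltAut
import Mathlib.GroupTheory.Perm.Centralizer

/-!
# Groups between `A_n` and `S_n`
-/

set_option autoImplicit false

open Cfsg Subgroup Equiv

namespace Cfsg.Agent.H600.KSix

universe u

/-- extension by the identity -/
def ext {m n : ℕ} (h : m ≤ n) : Perm (Fin m) →* Perm (Fin n) := Perm.extendDomainHom (Fin.castLEquiv h)

theorem ext_injective {m n : ℕ} (h : m ≤ n) : Function.Injective (ext h) :=
  Perm.extendDomainHom_injective (Fin.castLEquiv h)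

theorem ext_cycleType {m n : ℕ} (h : m ≤ n) (σ : Perm (Fin m)) : (ext h σ).cycleType = σ.cycleType :=
  Perm.cycleType_extendDomain (Fin.castLEquiv h)

theorem ext_mem {m n : ℕ} (h : m ≤ n) {σ : Perm (Fin m)} (hσ : σ ∈ alternatingGroup (Fin m)) :
    ext h σ ∈ alternatingGroup (Fin n) := by
  rw [Perm.mem_alternatingGroup] at hσ ⊢
  rw [← hσ]
  exact Perm.sign_extendDomain σ (Fin.castLEquiv h)

theorem mem_of_pow {m k : ℕ} (hk : Odd k) {σ : Perm (Fin m)} (h : σ ^ k = 1) : σ ∈ alternatingGroup (Fin m) := by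
  rw [Perm.mem_alternatingGroup]
  have h1 : Perm.sign σ ^ k = 1 := by rw [← map_pow, h, map_one]
  rcases Int.units_eq_one_or (Perm.sign σ) with h2 | h2
  · exact h2
  · rw [h2, hk.neg_one_pow] at h1
    exact absurd h1 (by decide)

/-- `G` is the alternating or the symmetric group -/
structure Emb (n : ℕ) {G : Type u} [Group G] (f : G →* Perm (Fin n)) : Prop where
  inj : Function.Injective f
  alt : ∀ σ ∈ alternatingGroup (Fin n), ∃ g, f g = σ

theorem exists_emb {n : ℕ} (hn : 7 ≤ n) {G : Type u} [Group G] (N : Subgroup G) [N.Normal]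
    (e : N ≃* alternatingGroup (Fin n)) (hC : centralizer (N : Set G) = ⊥) :
    ∃ f : G →* Perm (Fin n), Emb n f := by
  obtain ⟨ψ, hψ⟩ := Cfsg.Agent.StandardComponent.AltAut.exists_autHom n hn
  let f : G →* Perm (Fin n) := ψ.comp ((MulAut.congr e).toMonoidHom.comp MulAut.conjNormal)
  have key : ∀ (g : G) (x : alternatingGroup (Fin n)),
      ((e ((MulAut.conjNormal g : MulAut N) (e.symm x)) : alternatingGroup (Fin n)) : Perm (Fin n)) =
        f g * x * (f g)⁻¹ := fun g x => hψ (MulAut.congr e (MulAut.conjNormal g)) x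
  refine ⟨f, ?_, ?_⟩
  · rw [injective_iff_map_eq_one]
    intro g hg
    have h1 : g ∈ centralizer (N : Set G) := by
      rw [mem_centralizer_iff]
      intro y hy
      have h2 := key g (e ⟨y, hy⟩)
      rw [hg, one_mul, inv_one, mul_one, e.symm_apply_apply] at h2
      have h3 := e.injective (Subtype.ext h2)
      have h4 := congrArg Subtype.val h3
      rw [MulAut.conjNormal_apply] at h4
      have h5 : g * y * g⁻¹ = y := h4
      rw [mul_inv_eq_iff_eq_mul] at h5
      exact h5.symm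
    rw [hC] at h1
    exact mem_bot.1 h1
  · intro σ hσ
    obtain ⟨m, rfl⟩ : ∃ m, n = m + 2 := ⟨n - 2, by omega⟩
    refine ⟨(e.symm ⟨σ, hσ⟩ : N), ?_⟩
    apply Cfsg.Agent.StandardComponent.AltAut.conj_unique (m := m) (by omega)
    intro x
    rw [← key]
    have h1 : (MulAut.conjNormal ((e.symm ⟨σ, hσ⟩ : N) : G) : MulAut N) (e.symm x) =
        e.symm (⟨σ, hσ⟩ * x * ⟨σ, hσ⟩⁻¹) := by
      apply Subtype.ext
      rw [MulAut.conjNormal_apply, map_mul, map_mul, map_inv]
      rfl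
    rw [h1, e.apply_symm_apply]
    rfl

variable {n : ℕ} {G : Type u} [Group G] {f : G →* Perm (Fin n)}

theorem Emb.pre (E : Emb n f) {m : ℕ} (h : m ≤ n) {σ : Perm (Fin m)}
    (hσ : σ ∈ alternatingGroup (Fin m) ∨ Function.Surjective f) : ∃ g, f g = ext h σ := by
  rcases hσ with h1 | h1
  · exact E.alt _ (ext_mem h h1)
  · exact h1 _

theorem ct_of_conj {m : ℕ} (h : m ≤ n) {x y : G} {σ τ : Perm (Fin m)} (hx : f x = ext h σ)
    (hy : f y = ext h τ) (hc : IsConj x y) : σ.cycleType = τ.cycleType := by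
  obtain ⟨c, hc⟩ := isConj_iff.1 hc
  rw [← ext_cycleType h σ, ← ext_cycleType h τ, ← hx, ← hy, ← hc, map_mul, map_mul, map_inv, Perm.cycleType_conj]

theorem supp_of_conj {m : ℕ} (h : m ≤ n) {x y : G} {σ τ : Perm (Fin m)} (hx : f x = ext h σ)
    (hy : f y = ext h τ) (hc : IsConj x y) : σ.support.card = τ.support.card := by
  rw [← Perm.sum_cycleType, ← Perm.sum_cycleType, ct_of_conj h hx hy hc]

theorem Emb.comm (E : Emb n f) {m : ℕ} (h : m ≤ n) {x y : G} {σ τ : Perm (Fin m)} (hx : f x = ext h σ)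
    (hy : f y = ext h τ) (hc : σ * τ = τ * σ) : x * y = y * x := by
  apply E.inj
  rw [map_mul, map_mul, hx, hy, ← map_mul, hc, map_mul]

theorem Emb.conjPow (E : Emb n f) {m : ℕ} (h : m ≤ n) {x y : G} {σ τ : Perm (Fin m)} (hx : f x = ext h σ)
    (hy : f y = ext h τ) {j : ℕ} (hc : σ * τ * σ⁻¹ = τ ^ j) : x * y * x⁻¹ = y ^ j := by
  apply E.inj
  rw [map_mul, map_mul, map_inv, map_pow, hx, hy, ← map_mul, ← map_inv, ← map_mul, hc, map_pow]

theorem Emb.conjInv (E : Emb n f) {m : ℕ} (h : m ≤ n) {x y : G} {σ τ : Perm (Fin m)} (hx : f x = ext h σ)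
    (hy : f y = ext h τ) (hc : σ * τ * σ⁻¹ = τ⁻¹) : x * y * x⁻¹ = y⁻¹ := by
  apply E.inj
  rw [map_mul, map_mul, map_inv, map_inv, hx, hy, ← map_mul, ← map_inv, ← map_mul, hc, map_inv]

theorem Emb.pow_one (E : Emb n f) {m : ℕ} (h : m ≤ n) {x : G} {σ : Perm (Fin m)} (hx : f x = ext h σ) {k : ℕ}
    (hc : σ ^ k = 1) : x ^ k = 1 := by
  apply E.inj
  rw [map_pow, hx, ← map_pow, hc, map_one, map_one]

theorem ne_one {m : ℕ} (h : m ≤ n) {x : G} {σ : Perm (Fin m)} (hx : f x = ext h σ) (hc : σ ≠ 1) : x ≠ 1 := by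
  rintro rfl
  apply hc
  apply ext_injective h
  rw [← hx, map_one, map_one]

variable [Finite G] {p : ℕ} [Fact p.Prime] {M : Ideal AlgInt}

theorem Emb.two_le (E : Emb n f) (hM : IsPModular p M) (hp2 : p ≠ 2) {m : ℕ} (h : m ≤ n) {x y t : Perm (Fin m)}
    {gx : G} (hgx : f gx = ext h x) (hy : y ^ p = 1) (hy1 : y ≠ 1)
    (ht : t ∈ alternatingGroup (Fin m) ∨ Function.Surjective f)
    (hyx : y * x = x * y) (htx : t * x = x * t) (hr : t * y * t⁻¹ = y⁻¹) :
    2 ≤ blockRank p (principalBlock M ↥(centralizer ({gx} : Set G))) := by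
  obtain ⟨gy, hgy⟩ := E.pre h (Or.inl (mem_of_pow ((Fact.out : p.Prime).odd_of_ne_two hp2) hy))
  obtain ⟨gt, hgt⟩ := E.pre h ht
  exact KSix.two_le hM hp2 (E.pow_one h hgy hy) (ne_one h hgy hy1) (E.comm h hgy hgx hyx) (E.comm h hgt hgx htx)
    (E.conjInv h hgt hgy hr)

theorem Emb.two_le_self (E : Emb n f) (hM : IsPModular p M) (hp2 : p ≠ 2) {m : ℕ} (h : m ≤ n) {y t : Perm (Fin m)}
    (hy : y ^ p = 1) (hy1 : y ≠ 1) (ht : t ∈ alternatingGroup (Fin m) ∨ Function.Surjective f)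
    (hr : t * y * t⁻¹ = y⁻¹) : 2 ≤ blockRank p (principalBlock M G) := by
  obtain ⟨gy, hgy⟩ := E.pre h (Or.inl (mem_of_pow ((Fact.out : p.Prime).odd_of_ne_two hp2) hy))
  obtain ⟨gt, hgt⟩ := E.pre h ht
  refine H784.K5.two_le_rank hM (not_compl_of_real hp2 (y := gy) (h := gt) ⟨1, ?_⟩ (ne_one h hgy hy1)
    (E.conjInv h hgt hgy hr))
  rw [_root_.pow_one]
  exact orderOf_eq_prime (E.pow_one h hgy hy) (ne_one h hgy hy1)

omit [Finite G] in
theorem Emb.exists_pel (E : Emb n f) (hp2 : p ≠ 2) {m : ℕ} (h : m ≤ n) {x : Perm (Fin m)} {k : ℕ} (hx : x ^ p ^ k = 1)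
    (hx1 : x ≠ 1) : ∃ g, f g = ext h x ∧ g ≠ 1 ∧ ∃ j : ℕ, orderOf g = p ^ j := by
  have hp : p.Prime := Fact.out
  obtain ⟨g, hg⟩ := E.pre h (Or.inl (mem_of_pow ((hp.odd_of_ne_two hp2).pow) hx))
  refine ⟨g, hg, ne_one h hg hx1, ?_⟩
  obtain ⟨j, -, hj⟩ := (Nat.dvd_prime_pow hp).1 (orderOf_dvd_of_pow_eq_one (E.pow_one h hg hx))
  exact ⟨j, hj⟩

/-- the centralizer of a `p`-cycle -/
theorem Emb.rank_cyc (E : Emb n f) (hM : IsPModular p M) {m : ℕ} (h : m ≤ n) (h2p : p ≤ n) (h3p : ¬ p ^ 2 ∣ (n - p).factorial)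
    {x y c : Perm (Fin m)} {gx : G} (hgx : f gx = ext h x) (hx : x.cycleType = {p}) (hy : y ^ p = 1)
    (hp2 : p ≠ 2) (hc : c ∈ alternatingGroup (Fin m) ∨ Function.Surjective f)
    (hyx : y * x = x * y) (hcx : c * x = x * c) (hny : ∀ i < p, y ≠ x ^ i) {j : ℕ} (hr : c * y * c⁻¹ = y ^ j) :
    orderOf (j : ZMod p) ≤ blockRank p (principalBlock M ↥(centralizer ({gx} : Set G))) := by
  classical
  have hp : p.Prime := Fact.out
  obtain ⟨gy, hgy⟩ := E.pre h (Or.inl (mem_of_pow (hp.odd_of_ne_two hp2) hy))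
  obtain ⟨gc, hgc⟩ := E.pre h hc
  set C := centralizer ({gx} : Set G) with hC
  let x' : C := ⟨gx, mem_centralizer_singleton_iff.2 rfl⟩
  let y' : C := ⟨gy, mem_centralizer_singleton_iff.2 (E.comm h hgy hgx hyx)⟩
  let c' : C := ⟨gc, mem_centralizer_singleton_iff.2 (E.comm h hgc hgx hcx)⟩
  let Z : Subgroup C := zpowers x'
  have hZn : Z.Normal := by
    refine ⟨fun z hz g => ?_⟩
    obtain ⟨k, rfl⟩ := mem_zpowers_iff.1 hz
    have hgx' : g * x' = x' * g := Subtype.ext (mem_centralizer_singleton_iff.1 g.2)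
    have h1 : Commute g (x' ^ k) := (show Commute g x' from hgx').zpow_right k
    rw [h1.eq, mul_inv_cancel_right]
    exact hz
  have hxp : x ^ p = 1 := by
    rw [← orderOf_dvd_iff_pow_eq_one, ← Perm.lcm_cycleType, hx, Multiset.lcm_singleton]
    simp
  have hx1 : x ≠ 1 := by
    rintro rfl
    rw [Perm.cycleType_one] at hx
    exact Multiset.singleton_ne_zero p hx.symm
  have hox : orderOf gx = p := orderOf_eq_prime (E.pow_one h hgx hxp) (ne_one h hgx hx1)
  have hcZ : Nat.card Z = p := by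
    rw [Nat.card_zpowers, ← Subgroup.orderOf_coe]
    exact hox
  -- the order of the quotient
  have hcardC : Nat.card C ∣ (n - p).factorial * p := by
    have h1 : Nat.card (centralizer ({f gx} : Set (Perm (Fin n)))) = (n - p).factorial * p := by
      rw [Perm.nat_card_centralizer, hgx, ext_cycleType, hx, Multiset.sum_singleton, Multiset.prod_singleton,
        Fintype.card_fin]
      simp
    rw [← h1]
    refine Subgroup.card_dvd_of_injective (f := (f.comp C.subtype).codRestrict (centralizer ({f gx} : Set (Perm (Fin n)))) ?_) ?_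
    · intro g
      rw [mem_centralizer_singleton_iff]
      have h2 := mem_centralizer_singleton_iff.1 g.2
      show f g * f gx = f gx * f g
      rw [← map_mul, ← map_mul, h2]
    · intro a b hab
      have h2 := congrArg Subtype.val hab
      exact Subtype.ext (E.inj h2)
  have hcardQ : Nat.card (C ⧸ Z) ∣ (n - p).factorial := by
    have h1 := Subgroup.card_eq_card_quotient_mul_card_subgroup Z
    rw [hcZ] at h1
    rw [h1] at hcardC
    exact Nat.dvd_of_mul_dvd_mul_right hp.pos hcardC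
  -- a Sylow subgroup
  have P : Sylow p (C ⧸ Z) := default
  have hPc : IsCyclic (P : Subgroup (C ⧸ Z)) := by
    obtain ⟨k, hk⟩ := IsPGroup.iff_card.1 P.isPGroup'
    have hk1 : k ≤ 1 := by
      by_contra hcon
      apply h3p
      refine ((pow_dvd_pow p (by omega : 2 ≤ k)).trans ?_).trans hcardQ
      rw [← hk]
      exact Subgroup.card_subgroup_dvd_card _
    interval_cases k
    · have : Subsingleton (P : Subgroup (C ⧸ Z)) := by
        rw [pow_zero] at hk
        exact (Nat.card_eq_one_iff_unique.1 hk).1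
      exact isCyclic_of_subsingleton
    · rw [_root_.pow_one] at hk
      exact isCyclic_of_prime_card hk
  have hy' : (QuotientGroup.mk' Z) y' ≠ 1 := by
    intro h1
    have h2 : y' ∈ Z := (QuotientGroup.eq_one_iff y').1 h1
    obtain ⟨k, hk⟩ := (mem_zpowers_iff_mem_range_orderOf (x := x') (y := y')).1 h2 |> Finset.mem_image.1
    have ho : orderOf x' = p := by
      rw [← Subgroup.orderOf_coe]
      exact hox
    rw [ho, Finset.mem_range] at hk
    refine hny k hk.1 (ext_injective h ?_)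
    rw [map_pow, ← hgx, ← hgy, ← map_pow]
    have h3 := congrArg Subtype.val hk.2
    exact congrArg f h3.symm
  have hyo : orderOf ((QuotientGroup.mk' Z) y') = p ^ 1 := by
    rw [_root_.pow_one]
    refine orderOf_eq_prime ?_ hy'
    rw [← map_pow]
    have h1 : y' ^ p = 1 := Subtype.ext (E.pow_one h hgy hy)
    rw [h1, map_one]
  have hcj : (QuotientGroup.mk' Z) c' * (QuotientGroup.mk' Z) y' * ((QuotientGroup.mk' Z) c')⁻¹ =
      (QuotientGroup.mk' Z) y' ^ j := by
    rw [← map_mul, ← map_inv, ← map_mul, ← map_pow]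
    congr 1
    exact Subtype.ext (E.conjPow h hgc hgy hr)
  exact (H973.KB.rank_cyclic hM P hPc _ _ hy' 1 hyo j hcj).trans
    (H296.KB.rank_quot_le hM (QuotientGroup.mk' Z) (QuotientGroup.mk'_surjective Z))

end Cfsg.Agent.H600.KSix
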