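import Cfsg.Agent.H784.K5.Crit
import Cfsg.Agent.H296.KB.Rank
import Cfsg.Agent.H973.KB.Cyc
import Cfsg.Agent.H684.Principal
import Cfsg.Agent.H600.EightSeven

/-!
# `k(B₀) ≥ 7`: criteria

* `not_compl_of_real` : a nontrivial real `p`-element (`p` odd) excludes a normal `p`-complement;
* `card_ge` : `2 + ∑ w i ≤ k(B₀)`, `w i` lower bounds for `l(B₀(C(u_i)))`;
* `seven_of_degrees` : seven degrees prime to `p`, `C(U)` a `p`-group for a `p`-subgroup `U`.
-/

set_option autoImplicit false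

open Cfsg Subgroup

namespace Cfsg.Agent.H600.KSix

universe u

theorem not_compl_of_real {X : Type*} [Group X] [Finite X] {p : ℕ} [Fact p.Prime] (hp2 : p ≠ 2) {y h : X}
    (hy : ∃ k : ℕ, orderOf y = p ^ k) (hy1 : y ≠ 1) (hr : h * y * h⁻¹ = y⁻¹) : ¬ HasNormalPComplement p X := by
  intro hX
  have hp : p.Prime := Fact.out
  obtain ⟨N, hN, hpN, k, hk⟩ := OddOrderLocal.NilpotentQuotient.exists_of_hasNormalPComplement hX
  have hodd : Odd (p ^ k) := (hp.odd_of_ne_two hp2).pow
  -- the quotient has odd order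
  have hcard : Nat.card (X ⧸ N) = p ^ k := hk
  set a : X ⧸ N := QuotientGroup.mk y with ha
  set b : X ⧸ N := QuotientGroup.mk h with hb
  have hab : b * a * b⁻¹ = a⁻¹ := by
    have h1 := congrArg (QuotientGroup.mk : X → X ⧸ N) hr
    exact h1
  have hpow : ∀ q : X ⧸ N, q ^ p ^ k = 1 := fun q => by rw [← hcard]; exact pow_card_eq_one'
  have e1 : b * a = a⁻¹ * b := mul_inv_eq_iff_eq_mul.1 hab
  have e2 : Commute (b ^ 2) a := by
    show b ^ 2 * a = a * b ^ 2
    have e3 : b * a⁻¹ = a * b := by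
      have h2 : b * a⁻¹ * b⁻¹ = (b * a * b⁻¹)⁻¹ := by group
      rw [hab, inv_inv] at h2
      exact mul_inv_eq_iff_eq_mul.1 h2
    calc b ^ 2 * a = b * (b * a) := by rw [pow_two, mul_assoc]
      _ = b * a⁻¹ * b := by rw [e1, mul_assoc]
      _ = a * b * b := by rw [e3]
      _ = a * b ^ 2 := by rw [mul_assoc, ← pow_two]
  obtain ⟨m, hm⟩ := hodd
  have e4 : b = (b ^ 2) ^ (m + 1) := by
    have h3 := hpow b
    rw [hm] at h3
    rw [← pow_mul, show 2 * (m + 1) = 2 * m + 1 + 1 by ring, pow_succ, h3, one_mul]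
  have e5 : Commute b a := by rw [e4]; exact e2.pow_left _
  have e6 : a = a⁻¹ := by
    rw [← hab, e5.eq]; group
  have e7 : a ^ 2 = 1 := by
    rw [pow_two]
    nth_rewrite 1 [e6]
    exact inv_mul_cancel a
  have e8 : a = 1 := by
    have h3 := hpow a
    rw [hm, pow_succ, pow_mul, e7, one_pow, one_mul] at h3
    exact h3
  have hyN : y ∈ N := (QuotientGroup.eq_one_iff y).1 e8
  obtain ⟨j, hj⟩ := hy
  have h5 : p ^ j ∣ Nat.card N := by
    have h6 := orderOf_dvd_natCard (⟨y, hyN⟩ : N)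
    rwa [← Subgroup.orderOf_coe, hj] at h6
  rcases Nat.eq_zero_or_pos j with rfl | hj0
  · rw [pow_zero, orderOf_eq_one_iff] at hj
    exact hy1 hj
  · exact hpN ((dvd_pow_self p hj0.ne').trans h5)

section

variable {G : Type u} [Group G] [Finite G] {p : ℕ} [Fact p.Prime] {M : Ideal AlgInt}

/-- a real `p`-element in `C(x)` -/
theorem two_le (hM : IsPModular p M) (hp2 : p ≠ 2) {x y h : G} (hyp : y ^ p = 1) (hy1 : y ≠ 1)
    (hyx : y * x = x * y) (hhx : h * x = x * h) (hr : h * y * h⁻¹ = y⁻¹) :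
    2 ≤ blockRank p (principalBlock M ↥(centralizer ({x} : Set G))) := by
  have hp : p.Prime := Fact.out
  refine H784.K5.two_le_rank hM ?_
  let y' : ↥(centralizer ({x} : Set G)) := ⟨y, mem_centralizer_singleton_iff.2 hyx⟩
  let h' : ↥(centralizer ({x} : Set G)) := ⟨h, mem_centralizer_singleton_iff.2 hhx⟩
  have h1 : y' ≠ 1 := fun h => hy1 (congrArg Subtype.val h)
  refine not_compl_of_real hp2 (y := y') (h := h') ⟨1, ?_⟩ h1 (Subtype.ext hr)
  rw [pow_one]
  exact orderOf_eq_prime (Subtype.ext hyp) h1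

/-- **The weights.** -/
theorem card_ge (hM : IsPModular p M) (h2 : 2 ≤ blockRank p (principalBlock M G)) {m : ℕ} (u : Fin m → G)
    (hu : ∀ i, ∃ k : ℕ, orderOf (u i) = p ^ k) (hu1 : ∀ i, u i ≠ 1)
    (hinj : ∀ i j, IsConj (u i) (u j) → i = j) (w : Fin m → ℕ)
    (hw : ∀ i, w i ≤ blockRank p (principalBlock M ↥(centralizer ({u i} : Set G)))) :
    2 + ∑ i, w i ≤ Nat.card (principalBlock M G) := by
  classical
  have hui : Function.Injective u := fun i j h => hinj i j (by rw [h])
  have h := H784.K5.rank_sum_le hM (Finset.univ.image u)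
    (by
      intro x hx
      obtain ⟨i, -, rfl⟩ := Finset.mem_image.1 hx
      exact hu i)
    (by
      intro x hx
      obtain ⟨i, -, rfl⟩ := Finset.mem_image.1 hx
      exact hu1 i)
    (by
      intro x hx y hy hxy
      obtain ⟨i, -, rfl⟩ := Finset.mem_image.1 hx
      obtain ⟨j, -, rfl⟩ := Finset.mem_image.1 hy
      rw [hinj i j hxy])
  rw [Finset.sum_image fun i _ j _ h => hui h] at h
  have h3 : ∑ i, w i ≤ ∑ i, blockRank p (principalBlock M ↥(centralizer ({u i} : Set G))) :=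
    Finset.sum_le_sum fun i _ => hw i
  omega

/-- seven degrees prime to `p` -/
theorem seven_of_degrees (hM : IsPModular p M) {U : Subgroup G} (hU : IsPGroup p U)
    (hC : IsPGroup p (centralizer (U : Set G))) (L : List ℕ) (hL : L.Nodup) (h7 : 7 ≤ L.length)
    (hd : ∀ d ∈ L, d ∈ charDegrees G ∧ ¬ p ∣ d) : 7 ≤ Nat.card (principalBlock M G) := by
  classical
  have : Finite (principalBlock M G) := by
    have := Fintype.ofFinite G
    have : Finite (IrrCharacter G) := Cfsg.Agent.Characters.Core.finite_irr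
    exact Subtype.finite
  have key : ∀ d : {d // d ∈ L}, ∃ χ : principalBlock M G, charDegree ((χ : IrrCharacter G) : G → ℂ) = d := by
    rintro ⟨d, hdL⟩
    obtain ⟨⟨χ, hχ⟩, hpd⟩ := hd d hdL
    exact ⟨⟨χ, H684.Principal.mem_of_not_dvd hM hU hC χ (by rw [hχ]; exact hpd)⟩, hχ⟩
  choose F hF using key
  have hinj : Function.Injective F := by
    intro a b hab
    apply Subtype.ext
    rw [← hF a, ← hF b, hab]
  have h1 := Nat.card_le_card_of_injective F hinj
  have h2 : Nat.card {d // d ∈ L} = L.length := by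
    rw [Nat.card_eq_fintype_card, Fintype.card_of_subtype L.toFinset (fun x => List.mem_toFinset),
      List.toFinset_card_of_nodup hL]
  omega

end

end Cfsg.Agent.H600.KSix
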