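import Cfsg.Agent.H600.KSix.Wt

/-!
# S4876, the alternating groups: `A_10`, `A_11` (`p = 5`), `A_14`, `A_15` (`p = 7`) by degrees; the row
-/

set_option autoImplicit false
set_option maxRecDepth 100000

open Cfsg Subgroup Equiv

namespace Cfsg.Agent.H600.KSix

universe u

variable {n : ℕ} {G : Type u} [Group G] {f : G →* Perm (Fin n)}

/-- the proper subgroups of `S_n` containing `A_n` -/
theorem Emb.range_eq (E : Emb n f) (hn : 2 ≤ n) (hf : ¬ Function.Surjective f) (g : G) :
    f g ∈ alternatingGroup (Fin n) := by
  have : Nontrivial (Fin n) := Fin.nontrivial_iff_two_le.2 hn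
  by_contra hg
  apply hf
  intro σ
  by_cases hσ : σ ∈ alternatingGroup (Fin n)
  · exact E.alt σ hσ
  · have h1 : σ * (f g)⁻¹ ∈ alternatingGroup (Fin n) := by
      rw [Subgroup.mul_mem_iff_of_index_two alternatingGroup.index_eq_two, inv_mem_iff]
      tauto
    obtain ⟨g', hg'⟩ := E.alt _ h1
    exact ⟨g' * g, by rw [map_mul, hg']; group⟩

theorem Emb.equiv (E : Emb n f) (hn : 2 ≤ n) (hf : ¬ Function.Surjective f) :
    Nonempty (G ≃* alternatingGroup (Fin n)) := by
  let F : G →* alternatingGroup (Fin n) := f.codRestrict _ (E.range_eq hn hf)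
  refine ⟨MulEquiv.ofBijective F ⟨fun a b h => E.inj (congrArg Subtype.val h), fun σ => ?_⟩⟩
  obtain ⟨g, hg⟩ := E.alt σ.1 σ.2
  exact ⟨g, Subtype.ext hg⟩

variable [Finite G] {p : ℕ} [Fact p.Prime] {M : Ideal AlgInt}

theorem Emb.seven_alt (E : Emb n f) (hns : ¬ Function.Surjective f) (hn2 : 2 ≤ n) (hn : 2 * p ≤ n) (hn' : n ≤ 2 * p + 1)
    (hM : IsPModular p M) (hp2 : p ≠ 2) {m : ℕ} (h : m ≤ n) (x t : Perm (Fin m))
    (hx : x.cycleType = Multiset.replicate 2 p) (hxp : x ^ p = 1) (ht : Perm.sign t ≠ 1) (htx : t * x = x * t)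
    (L : List ℕ) (hL : L.Nodup) (h7 : 7 ≤ L.length)
    (hd : ∀ d ∈ L, d ∈ charDegrees (alternatingGroup (Fin n)) ∧ ¬ p ∣ d) : 7 ≤ Nat.card (principalBlock M G) := by
  have hp : p.Prime := Fact.out
  have : Nontrivial (Fin n) := Fin.nontrivial_iff_two_le.2 hn2
  obtain ⟨e⟩ := E.equiv hn2 hns
  have hx1 : x ≠ 1 := by
    rintro rfl
    rw [Perm.cycleType_one] at hx
    have := congrArg Multiset.card hx
    rw [Multiset.card_replicate, Multiset.card_zero] at this
    omega
  obtain ⟨g, hg⟩ := E.pre h (Or.inl (mem_of_pow (hp.odd_of_ne_two hp2) hxp))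
  have hgo : orderOf g = p := orderOf_eq_prime (E.pow_one h hg hxp) (ne_one h hg hx1)
  -- the centralizer in the symmetric group
  set A := alternatingGroup (Fin n) with hA
  set C := centralizer ({f g} : Set (Perm (Fin n))) with hC
  have hcC : Nat.card C = p ^ 2 * 2 := by
    rw [hC, Perm.nat_card_centralizer, hg, ext_cycleType, hx, Multiset.sum_replicate, Multiset.prod_replicate,
      Fintype.card_fin, smul_eq_mul]
    have h1 : (Multiset.replicate 2 p).toFinset = {p} := by
      ext a
      rw [Multiset.mem_toFinset, Multiset.mem_replicate, Finset.mem_singleton]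
      tauto
    rw [h1, Finset.prod_singleton, Multiset.count_replicate_self]
    have h2 : (n - 2 * p).factorial = 1 := by
      rcases (by omega : n - 2 * p = 0 ∨ n - 2 * p = 1) with h3 | h3 <;> rw [h3] <;> rfl
    rw [h2, one_mul]
    rfl
  have hidx : (A.subgroupOf C).index = 2 := by
    have h1 : (A.subgroupOf C).index ∣ A.index := Subgroup.relIndex_dvd_index_of_normal A C
    rw [alternatingGroup.index_eq_two] at h1
    rcases (Nat.dvd_prime Nat.prime_two).1 h1 with h2 | h2
    · exfalso
      rw [Subgroup.index_eq_one] at h2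
      have h3 : (⟨ext h t, by
        rw [hC, mem_centralizer_singleton_iff, hg, ← map_mul, ← map_mul, htx]⟩ : C) ∈ A.subgroupOf C := by
        rw [h2]
        exact mem_top _
      rw [mem_subgroupOf] at h3
      rw [hA, Perm.mem_alternatingGroup] at h3
      apply ht
      rw [← h3]
      exact (Perm.sign_extendDomain t (Fin.castLEquiv h)).symm
    · exact h2
  have hcA : Nat.card (A.subgroupOf C) = p ^ 2 := by
    have h1 := Subgroup.card_mul_index (A.subgroupOf C)
    rw [hidx, hcC] at h1
    omega
  have hcG : Nat.card (centralizer ({g} : Set G)) ∣ p ^ 2 := by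
    rw [← hcA]
    have hmem : ∀ z : centralizer ({g} : Set G), f z ∈ C := by
      intro z
      rw [hC, mem_centralizer_singleton_iff, ← map_mul, ← map_mul, mem_centralizer_singleton_iff.1 z.2]
    let F : centralizer ({g} : Set G) →* A.subgroupOf C :=
      ((f.comp (centralizer ({g} : Set G)).subtype).codRestrict C hmem).codRestrict (A.subgroupOf C)
        (fun z => E.range_eq hn2 hns _)
    refine Subgroup.card_dvd_of_injective F ?_
    intro a b hab
    have h2 := congrArg (fun z : A.subgroupOf C => ((z : C) : Perm (Fin n))) hab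
    exact Subtype.ext (E.inj h2)
  have hCg : IsPGroup p (centralizer ({g} : Set G)) := by
    obtain ⟨j, -, hj⟩ := (Nat.dvd_prime_pow hp).1 hcG
    exact IsPGroup.of_card hj
  have hU : IsPGroup p (zpowers g) := IsPGroup.of_card (n := 1) (by rw [Nat.card_zpowers, hgo, _root_.pow_one])
  have hCU : IsPGroup p (centralizer ((zpowers g : Subgroup G) : Set G)) := by
    refine hCg.to_le ?_
    exact Subgroup.centralizer_le (by
      rw [Set.singleton_subset_iff]
      exact mem_zpowers g)
  refine seven_of_degrees hM hU hCU L hL h7 ?_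
  intro d hdL
  rw [H664.Eight.charDegrees_congr e]
  exact hd d hdL

open H600.EightAlt in
/-- `A_10`, `p = 5` -/
theorem alt_ten {f : G →* Perm (Fin 10)} (E : Emb 10 f) (hns : ¬ Function.Surjective f) (hM : IsPModular 5 M) :
    7 ≤ Nat.card (principalBlock M G) := by
  have : Fact (Nat.Prime 5) := ⟨Nat.prime_five⟩
  refine E.seven_alt hns (by norm_num) (by norm_num) (by norm_num) hM (by norm_num) le_rfl a52t t52t
    (ct_prime (by decide +kernel) (by decide +kernel) (by decide +kernel)) (by decide +kernel) ?_ (by decide +kernel)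
    [1, 9, 36, 42, 84, 126, 252] (by decide) (by simp) ?_
  · rw [t52t, map_mul, map_mul, map_mul, map_mul, Perm.sign_swap (by decide), Perm.sign_swap (by decide),
      Perm.sign_swap (by decide), Perm.sign_swap (by decide), Perm.sign_swap (by decide)]
    decide
  intro d hd
  simp only [List.mem_cons, List.not_mem_nil, or_false] at hd
  rcases hd with rfl | rfl | rfl | rfl | rfl | rfl | rfl
  · exact ⟨H664.Eight.one_mem, by norm_num⟩
  · exact ⟨mem_gen (n := 8) (β := ![0, 2, 11]) (by decide) (by decide) (by decide +kernel) (by decide +kernel), by norm_num⟩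
  · exact ⟨mem_gen (n := 8) (β := ![1, 2, 10]) (by decide) (by decide) (by decide +kernel) (by decide +kernel), by norm_num⟩
  · exact ⟨mem_gen (n := 8) (β := ![0, 6, 7]) (by decide) (by decide) (by decide +kernel) (by decide +kernel), by norm_num⟩
  · exact ⟨mem_gen (n := 8) (β := ![1, 2, 3, 10]) (by decide) (by decide) (by decide +kernel) (by decide +kernel), by norm_num⟩
  · exact ⟨mem_gen (n := 8) (β := ![1, 2, 3, 4, 10]) (by decide) (by decide) (by decide +kernel) (by decide +kernel), by norm_num⟩
  · exact ⟨mem_gen (n := 8) (β := ![2, 5, 6]) (by decide) (by decide) (by decide +kernel) (by decide +kernel), by norm_num⟩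

open H600.EightAlt in
/-- `A_11`, `p = 5` -/
theorem alt_eleven {f : G →* Perm (Fin 11)} (E : Emb 11 f) (hns : ¬ Function.Surjective f) (hM : IsPModular 5 M) :
    7 ≤ Nat.card (principalBlock M G) := by
  have : Fact (Nat.Prime 5) := ⟨Nat.prime_five⟩
  refine E.seven_alt hns (by norm_num) (by norm_num) (by norm_num) hM (by norm_num) (m := 10) (by norm_num) a52t t52t
    (ct_prime (by decide +kernel) (by decide +kernel) (by decide +kernel)) (by decide +kernel) ?_ (by decide +kernel)
    [1, 44, 132, 231, 462, 594, 693] (by decide) (by simp) ?_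
  · rw [t52t, map_mul, map_mul, map_mul, map_mul, Perm.sign_swap (by decide), Perm.sign_swap (by decide),
      Perm.sign_swap (by decide), Perm.sign_swap (by decide), Perm.sign_swap (by decide)]
    decide
  intro d hd
  simp only [List.mem_cons, List.not_mem_nil, or_false] at hd
  rcases hd with rfl | rfl | rfl | rfl | rfl | rfl | rfl
  · exact ⟨H664.Eight.one_mem, by norm_num⟩
  · exact ⟨mem_gen (n := 9) (β := ![0, 3, 11]) (by decide) (by decide) (by decide +kernel) (by decide +kernel), by norm_num⟩
  · exact ⟨mem_gen (n := 9) (β := ![0, 6, 8]) (by decide) (by decide) (by decide +kernel) (by decide +kernel), by norm_num⟩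
  · exact ⟨mem_gen (n := 9) (β := ![1, 3, 10]) (by decide) (by decide) (by decide +kernel) (by decide +kernel), by norm_num⟩
  · exact ⟨mem_gen (n := 9) (β := ![3, 5, 6]) (by decide) (by decide) (by decide +kernel) (by decide +kernel), by norm_num⟩
  · exact ⟨mem_gen (n := 9) (β := ![1, 2, 4, 10]) (by decide) (by decide) (by decide +kernel) (by decide +kernel), by norm_num⟩
  · exact ⟨mem_gen (n := 9) (β := ![1, 5, 8]) (by decide) (by decide) (by decide +kernel) (by decide +kernel), by norm_num⟩

open H600.EightAlt in
/-- `A_14`, `p = 7` -/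
theorem alt_fourteen {f : G →* Perm (Fin 14)} (E : Emb 14 f) (hns : ¬ Function.Surjective f) (hM : IsPModular 7 M) :
    7 ≤ Nat.card (principalBlock M G) := by
  have : Fact (Nat.Prime 7) := ⟨by norm_num⟩
  refine E.seven_alt hns (by norm_num) (by norm_num) (by norm_num) hM (by norm_num) le_rfl a72t t72t
    (ct_prime (by decide +kernel) (by decide +kernel) (by decide +kernel)) (by decide +kernel) ?_ (by decide +kernel)
    [1, 13, 78, 286, 429, 715, 4576] (by decide) (by simp) ?_
  · rw [t72t, map_mul, map_mul, map_mul, map_mul, map_mul, map_mul, Perm.sign_swap (by decide),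
      Perm.sign_swap (by decide), Perm.sign_swap (by decide), Perm.sign_swap (by decide), Perm.sign_swap (by decide),
      Perm.sign_swap (by decide), Perm.sign_swap (by decide)]
    decide
  intro d hd
  simp only [List.mem_cons, List.not_mem_nil, or_false] at hd
  rcases hd with rfl | rfl | rfl | rfl | rfl | rfl | rfl
  · exact ⟨H664.Eight.one_mem, by norm_num⟩
  · exact ⟨mem_gen (n := 12) (β := ![0, 2, 15]) (by decide) (by decide) (by decide +kernel) (by decide +kernel), by norm_num⟩
  · exact ⟨mem_gen (n := 12) (β := ![1, 2, 14]) (by decide) (by decide) (by decide +kernel) (by decide +kernel), by norm_num⟩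
  · exact ⟨mem_gen (n := 12) (β := ![1, 2, 3, 14]) (by decide) (by decide) (by decide +kernel) (by decide +kernel), by norm_num⟩
  · exact ⟨mem_gen (n := 12) (β := ![0, 8, 9]) (by decide) (by decide) (by decide +kernel) (by decide +kernel), by norm_num⟩
  · exact ⟨mem_gen (n := 12) (β := ![1, 2, 3, 4, 14]) (by decide) (by decide) (by decide +kernel) (by decide +kernel), by norm_num⟩
  · exact ⟨mem_gen (n := 12) (β := ![1, 7, 9]) (by decide) (by decide) (by decide +kernel) (by decide +kernel), by norm_num⟩

open H600.EightAlt in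
/-- `A_15`, `p = 7` -/
theorem alt_fifteen {f : G →* Perm (Fin 15)} (E : Emb 15 f) (hns : ¬ Function.Surjective f) (hM : IsPModular 7 M) :
    7 ≤ Nat.card (principalBlock M G) := by
  have : Fact (Nat.Prime 7) := ⟨by norm_num⟩
  refine E.seven_alt hns (by norm_num) (by norm_num) (by norm_num) hM (by norm_num) (m := 14) (by norm_num) a72t t72t
    (ct_prime (by decide +kernel) (by decide +kernel) (by decide +kernel)) (by decide +kernel) ?_ (by decide +kernel)
    [1, 90, 715, 1430, 2925, 11583, 21450] (by decide) (by simp) ?_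
  · rw [t72t, map_mul, map_mul, map_mul, map_mul, map_mul, map_mul, Perm.sign_swap (by decide),
      Perm.sign_swap (by decide), Perm.sign_swap (by decide), Perm.sign_swap (by decide), Perm.sign_swap (by decide),
      Perm.sign_swap (by decide), Perm.sign_swap (by decide)]
    decide
  intro d hd
  simp only [List.mem_cons, List.not_mem_nil, or_false] at hd
  rcases hd with rfl | rfl | rfl | rfl | rfl | rfl | rfl
  · exact ⟨H664.Eight.one_mem, by norm_num⟩
  · exact ⟨mem_gen (n := 13) (β := ![0, 3, 15]) (by decide) (by decide) (by decide +kernel) (by decide +kernel), by norm_num⟩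
  · exact ⟨mem_gen (n := 13) (β := ![1, 3, 14]) (by decide) (by decide) (by decide +kernel) (by decide +kernel), by norm_num⟩
  · exact ⟨mem_gen (n := 13) (β := ![0, 8, 10]) (by decide) (by decide) (by decide +kernel) (by decide +kernel), by norm_num⟩
  · exact ⟨mem_gen (n := 13) (β := ![1, 2, 4, 14]) (by decide) (by decide) (by decide +kernel) (by decide +kernel), by norm_num⟩
  · exact ⟨mem_gen (n := 13) (β := ![1, 7, 10]) (by decide) (by decide) (by decide +kernel) (by decide +kernel), by norm_num⟩
  · exact ⟨mem_gen (n := 13) (β := ![3, 7, 8]) (by decide) (by decide) (by decide +kernel) (by decide +kernel), by norm_num⟩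

/-- `p = 5`, `n ≥ 10` -/
theorem five (E : Emb n f) (hn : 10 ≤ n) (hM : IsPModular 5 M) : 7 ≤ Nat.card (principalBlock M G) := by
  rcases Nat.lt_or_ge n 15 with h15 | h15
  · by_cases hf : Function.Surjective f
    · exact five_sym E hf hn (by omega) hM
    · rcases Nat.lt_or_ge n 12 with h12 | h12
      · rcases (by omega : n = 10 ∨ n = 11) with rfl | rfl
        · exact alt_ten E hf hM
        · exact alt_eleven E hf hM
      · exact five_mid E h12 (by omega) hM
  · exact five_large E h15 hM

/-- `p = 7`, `n ≥ 14` -/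
theorem seven (E : Emb n f) (hn : 14 ≤ n) (hM : IsPModular 7 M) : 7 ≤ Nat.card (principalBlock M G) := by
  rcases Nat.lt_or_ge n 21 with h21 | h21
  · by_cases hf : Function.Surjective f
    · exact seven_sym E hf hn (by omega) hM
    · rcases Nat.lt_or_ge n 16 with h16 | h16
      · rcases (by omega : n = 14 ∨ n = 15) with rfl | rfl
        · exact alt_fourteen E hf hM
        · exact alt_fifteen E hf hM
      · exact seven_mid E h16 (by omega) hM
  · exact seven_large E h21 hM

/-- **The row of the alternating groups.** -/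
theorem row_alt (hp : p = 3 ∨ p = 5 ∨ p = 7) (hd : p ^ (if p = 3 then 3 else 2) ∣ Nat.card (alternatingGroup (Fin n)))
    (N : Subgroup G) [N.Normal] (e : N ≃* alternatingGroup (Fin n)) (hC : centralizer (N : Set G) = ⊥)
    (hM : IsPModular p M) : 7 ≤ Nat.card (principalBlock M G) := by
  have hd' : p ^ (if p = 3 then 3 else 2) ∣ n.factorial := by
    have h4 : Nat.card (alternatingGroup (Fin n)) ∣ Nat.card (Perm (Fin n)) := Subgroup.card_subgroup_dvd_card _
    rw [Nat.card_perm, Nat.card_eq_fintype_card (α := Fin n), Fintype.card_fin] at h4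
    exact hd.trans h4
  have key : ∀ k : ℕ, ¬ p ^ (if p = 3 then 3 else 2) ∣ k.factorial → k < n := by
    intro k hk
    by_contra hle
    exact hk (hd'.trans (Nat.factorial_dvd_factorial (not_lt.1 hle)))
  rcases hp with rfl | rfl | rfl
  · have hn := key 8 (by decide)
    obtain ⟨f, E⟩ := exists_emb (by omega) N e hC
    exact three E (by omega) hM
  · have hn := key 9 (by decide)
    obtain ⟨f, E⟩ := exists_emb (by omega) N e hC
    exact five E (by omega) hM
  · have hn := key 13 (by decide)
    obtain ⟨f, E⟩ := exists_emb (by omega) N e hC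
    exact seven E (by omega) hM

end Cfsg.Agent.H600.KSix
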