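import Cfsg.Agent.H600.KSix.Deg
import Cfsg.Agent.H61.K6.Base

/-!
# S4876: the row of the alternating groups, in the interface `KRow`
-/

set_option autoImplicit false

open Cfsg Subgroup Cfsg.Agent.H61.K6

namespace Cfsg.Agent.H600.KSix

universe u v

/-- **The row of the alternating groups.** -/
theorem kRow_alt {p n : ℕ} (hp : p = 3 ∨ p = 5 ∨ p = 7) (h2 : p ^ 2 ∣ Nat.card (alternatingGroup (Fin n)))
    (h3 : p = 3 → 27 ∣ Nat.card (alternatingGroup (Fin n))) : KRow.{u, 0} p (alternatingGroup (Fin n)) := by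
  intro M G _ _ K hS
  have := hS.normal
  have : Fact p.Prime := ⟨hS.prime⟩
  refine row_alt hp ?_ K hS.iso.some.symm hS.cent hS.modular
  split_ifs with h
  · have h4 := h3 h
    rw [h]
    exact h4
  · exact h2

/-- **The row of the alternating groups**, up to isomorphism. -/
theorem kRow_alt' {p n : ℕ} {S : Type v} [Group S] (e : S ≃* alternatingGroup (Fin n))
    (hp : p = 3 ∨ p = 5 ∨ p = 7) (h2 : p ^ 2 ∣ Nat.card S) (h3 : p = 3 → 27 ∣ Nat.card S) : KRow.{u, v} p S := by
  have hc := Nat.card_congr e.toEquiv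
  rw [hc] at h2 h3
  exact (kRow_alt hp h2 h3).congr e.symm

end Cfsg.Agent.H600.KSix
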