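import Cfsg.Agent.H600.KSix.Emb

/-!
# S4876, the alternating groups: `k(B₀) ≥ 7`, weights
-/

set_option autoImplicit false
set_option maxRecDepth 100000

open Cfsg Subgroup Equiv

namespace Cfsg.Agent.H600.KSix

universe u

/-! ### The permutations -/

/-- `(3)` -/
def a31 : Perm (Fin 9) := ⟨![1, 2, 0, 3, 4, 5, 6, 7, 8],
  ![2, 0, 1, 3, 4, 5, 6, 7, 8], by decide +kernel, by decide +kernel⟩

/-- `(3^2)` -/
def a32 : Perm (Fin 9) := ⟨![1, 2, 0, 4, 5, 3, 6, 7, 8],
  ![2, 0, 1, 5, 3, 4, 6, 7, 8], by decide +kernel, by decide +kernel⟩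

/-- `(3^3)` -/
def a33 : Perm (Fin 9) := ⟨![1, 2, 0, 4, 5, 3, 7, 8, 6],
  ![2, 0, 1, 5, 3, 4, 8, 6, 7], by decide +kernel, by decide +kernel⟩

/-- `(9)` -/
def a39 : Perm (Fin 9) := ⟨![1, 2, 3, 4, 5, 6, 7, 8, 0],
  ![8, 0, 1, 2, 3, 4, 5, 6, 7], by decide +kernel, by decide +kernel⟩

/-- real in the centralizer of `a31` -/
def b31 : Perm (Fin 9) := ⟨![0, 1, 2, 4, 5, 3, 6, 7, 8],
  ![0, 1, 2, 5, 3, 4, 6, 7, 8], by decide +kernel, by decide +kernel⟩

/-- real in the centralizer of `a32` -/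
def b32 : Perm (Fin 9) := ⟨![1, 2, 0, 5, 3, 4, 6, 7, 8],
  ![2, 0, 1, 4, 5, 3, 6, 7, 8], by decide +kernel, by decide +kernel⟩

/-- `(5)` -/
def a51t : Perm (Fin 10) := ⟨![1, 2, 3, 4, 0, 5, 6, 7, 8, 9],
  ![4, 0, 1, 2, 3, 5, 6, 7, 8, 9], by decide +kernel, by decide +kernel⟩

/-- `(5^2)` -/
def a52t : Perm (Fin 10) := ⟨![1, 2, 3, 4, 0, 6, 7, 8, 9, 5],
  ![4, 0, 1, 2, 3, 9, 5, 6, 7, 8], by decide +kernel, by decide +kernel⟩

/-- real in the centralizer of `a51` -/
def b51t : Perm (Fin 10) := ⟨![0, 1, 2, 3, 4, 6, 7, 8, 9, 5],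
  ![0, 1, 2, 3, 4, 9, 5, 6, 7, 8], by decide +kernel, by decide +kernel⟩

/-- real in the centralizer of `a52` -/
def b52t : Perm (Fin 10) := ⟨![1, 2, 3, 4, 0, 9, 5, 6, 7, 8],
  ![4, 0, 1, 2, 3, 6, 7, 8, 9, 5], by decide +kernel, by decide +kernel⟩

/-- `(5)` -/
def a51 : Perm (Fin 12) := ⟨![1, 2, 3, 4, 0, 5, 6, 7, 8, 9, 10, 11],
  ![4, 0, 1, 2, 3, 5, 6, 7, 8, 9, 10, 11], by decide +kernel, by decide +kernel⟩

/-- `(5^2)` -/
def a52 : Perm (Fin 12) := ⟨![1, 2, 3, 4, 0, 6, 7, 8, 9, 5, 10, 11],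
  ![4, 0, 1, 2, 3, 9, 5, 6, 7, 8, 10, 11], by decide +kernel, by decide +kernel⟩

/-- real in the centralizer of `a51` -/
def b51 : Perm (Fin 12) := ⟨![0, 1, 2, 3, 4, 6, 7, 8, 9, 5, 10, 11],
  ![0, 1, 2, 3, 4, 9, 5, 6, 7, 8, 10, 11], by decide +kernel, by decide +kernel⟩

/-- real in the centralizer of `a52` -/
def b52 : Perm (Fin 12) := ⟨![1, 2, 3, 4, 0, 9, 5, 6, 7, 8, 10, 11],
  ![4, 0, 1, 2, 3, 6, 7, 8, 9, 5, 10, 11], by decide +kernel, by decide +kernel⟩

/-- `(5)` -/
def a51f : Perm (Fin 15) := ⟨![1, 2, 3, 4, 0, 5, 6, 7, 8, 9, 10, 11, 12, 13, 14],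
  ![4, 0, 1, 2, 3, 5, 6, 7, 8, 9, 10, 11, 12, 13, 14], by decide +kernel, by decide +kernel⟩

/-- `(5^2)` -/
def a52f : Perm (Fin 15) := ⟨![1, 2, 3, 4, 0, 6, 7, 8, 9, 5, 10, 11, 12, 13, 14],
  ![4, 0, 1, 2, 3, 9, 5, 6, 7, 8, 10, 11, 12, 13, 14], by decide +kernel, by decide +kernel⟩

/-- real in the centralizer of `a51` -/
def b51f : Perm (Fin 15) := ⟨![0, 1, 2, 3, 4, 6, 7, 8, 9, 5, 10, 11, 12, 13, 14],
  ![0, 1, 2, 3, 4, 9, 5, 6, 7, 8, 10, 11, 12, 13, 14], by decide +kernel, by decide +kernel⟩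

/-- real in the centralizer of `a52` -/
def b52f : Perm (Fin 15) := ⟨![1, 2, 3, 4, 0, 9, 5, 6, 7, 8, 10, 11, 12, 13, 14],
  ![4, 0, 1, 2, 3, 6, 7, 8, 9, 5, 10, 11, 12, 13, 14], by decide +kernel, by decide +kernel⟩

/-- `(5^3)` -/
def a53f : Perm (Fin 15) := ⟨![1, 2, 3, 4, 0, 6, 7, 8, 9, 5, 11, 12, 13, 14, 10],
  ![4, 0, 1, 2, 3, 9, 5, 6, 7, 8, 14, 10, 11, 12, 13], by decide +kernel, by decide +kernel⟩

/-- `(7)` -/
def a71t : Perm (Fin 14) := ⟨![1, 2, 3, 4, 5, 6, 0, 7, 8, 9, 10, 11, 12, 13],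
  ![6, 0, 1, 2, 3, 4, 5, 7, 8, 9, 10, 11, 12, 13], by decide +kernel, by decide +kernel⟩

/-- `(7^2)` -/
def a72t : Perm (Fin 14) := ⟨![1, 2, 3, 4, 5, 6, 0, 8, 9, 10, 11, 12, 13, 7],
  ![6, 0, 1, 2, 3, 4, 5, 13, 7, 8, 9, 10, 11, 12], by decide +kernel, by decide +kernel⟩

/-- real in the centralizer of `a71` -/
def b71t : Perm (Fin 14) := ⟨![0, 1, 2, 3, 4, 5, 6, 8, 9, 10, 11, 12, 13, 7],
  ![0, 1, 2, 3, 4, 5, 6, 13, 7, 8, 9, 10, 11, 12], by decide +kernel, by decide +kernel⟩

/-- real in the centralizer of `a72` -/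
def b72t : Perm (Fin 14) := ⟨![1, 2, 3, 4, 5, 6, 0, 13, 7, 8, 9, 10, 11, 12],
  ![6, 0, 1, 2, 3, 4, 5, 8, 9, 10, 11, 12, 13, 7], by decide +kernel, by decide +kernel⟩

/-- `(7)` -/
def a71 : Perm (Fin 16) := ⟨![1, 2, 3, 4, 5, 6, 0, 7, 8, 9, 10, 11, 12, 13, 14, 15],
  ![6, 0, 1, 2, 3, 4, 5, 7, 8, 9, 10, 11, 12, 13, 14, 15], by decide +kernel, by decide +kernel⟩

/-- `(7^2)` -/
def a72 : Perm (Fin 16) := ⟨![1, 2, 3, 4, 5, 6, 0, 8, 9, 10, 11, 12, 13, 7, 14, 15],
  ![6, 0, 1, 2, 3, 4, 5, 13, 7, 8, 9, 10, 11, 12, 14, 15], by decide +kernel, by decide +kernel⟩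

/-- real in the centralizer of `a71` -/
def b71 : Perm (Fin 16) := ⟨![0, 1, 2, 3, 4, 5, 6, 8, 9, 10, 11, 12, 13, 7, 14, 15],
  ![0, 1, 2, 3, 4, 5, 6, 13, 7, 8, 9, 10, 11, 12, 14, 15], by decide +kernel, by decide +kernel⟩

/-- real in the centralizer of `a72` -/
def b72 : Perm (Fin 16) := ⟨![1, 2, 3, 4, 5, 6, 0, 13, 7, 8, 9, 10, 11, 12, 14, 15],
  ![6, 0, 1, 2, 3, 4, 5, 8, 9, 10, 11, 12, 13, 7, 14, 15], by decide +kernel, by decide +kernel⟩

/-- `(7)` -/
def a71f : Perm (Fin 21) := ⟨![1, 2, 3, 4, 5, 6, 0, 7, 8, 9, 10, 11, 12, 13, 14, 15, 16, 17, 18, 19, 20],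
  ![6, 0, 1, 2, 3, 4, 5, 7, 8, 9, 10, 11, 12, 13, 14, 15, 16, 17, 18, 19, 20], by decide +kernel, by decide +kernel⟩

/-- `(7^2)` -/
def a72f : Perm (Fin 21) := ⟨![1, 2, 3, 4, 5, 6, 0, 8, 9, 10, 11, 12, 13, 7, 14, 15, 16, 17, 18, 19, 20],
  ![6, 0, 1, 2, 3, 4, 5, 13, 7, 8, 9, 10, 11, 12, 14, 15, 16, 17, 18, 19, 20], by decide +kernel, by decide +kernel⟩

/-- real in the centralizer of `a71` -/
def b71f : Perm (Fin 21) := ⟨![0, 1, 2, 3, 4, 5, 6, 8, 9, 10, 11, 12, 13, 7, 14, 15, 16, 17, 18, 19, 20],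
  ![0, 1, 2, 3, 4, 5, 6, 13, 7, 8, 9, 10, 11, 12, 14, 15, 16, 17, 18, 19, 20], by decide +kernel, by decide +kernel⟩

/-- real in the centralizer of `a72` -/
def b72f : Perm (Fin 21) := ⟨![1, 2, 3, 4, 5, 6, 0, 13, 7, 8, 9, 10, 11, 12, 14, 15, 16, 17, 18, 19, 20],
  ![6, 0, 1, 2, 3, 4, 5, 8, 9, 10, 11, 12, 13, 7, 14, 15, 16, 17, 18, 19, 20], by decide +kernel, by decide +kernel⟩

/-- `(7^3)` -/
def a73f : Perm (Fin 21) := ⟨![1, 2, 3, 4, 5, 6, 0, 8, 9, 10, 11, 12, 13, 7, 15, 16, 17, 18, 19, 20, 14],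
  ![6, 0, 1, 2, 3, 4, 5, 13, 7, 8, 9, 10, 11, 12, 20, 14, 15, 16, 17, 18, 19], by decide +kernel, by decide +kernel⟩

theorem sw2 {m : ℕ} {i j k l : Fin m} (h1 : i ≠ j) (h2 : k ≠ l) : swap i j * swap k l ∈ alternatingGroup (Fin m) := by
  rw [Perm.mem_alternatingGroup, map_mul, Perm.sign_swap h1, Perm.sign_swap h2]
  decide

/-- inverts `b31` -/
def t31 : Perm (Fin 9) := (swap 3 4 * swap 6 7)

theorem t31_mem : t31 ∈ alternatingGroup (Fin 9) :=
  sw2 (by decide) (by decide)

/-- inverts `b32` -/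
def t32 : Perm (Fin 9) := (swap 0 3 * swap 1 4) * (swap 2 5 * swap 6 7)

theorem t32_mem : t32 ∈ alternatingGroup (Fin 9) :=
  mul_mem (sw2 (by decide) (by decide)) (sw2 (by decide) (by decide))

/-- inverts `b51` -/
def t51t : Perm (Fin 10) := (swap 6 9 * swap 7 8)

theorem t51t_mem : t51t ∈ alternatingGroup (Fin 10) :=
  sw2 (by decide) (by decide)

/-- inverts `b52` -/
def t52t : Perm (Fin 10) := swap 0 5 * swap 1 6 * swap 2 7 * swap 3 8 * swap 4 9

/-- automorphism of order four of `b51` -/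
def c5t : Perm (Fin 10) := swap 6 8 * swap 6 9 * swap 6 7

/-- inverts `b51` -/
def t51 : Perm (Fin 12) := (swap 6 9 * swap 7 8)

theorem t51_mem : t51 ∈ alternatingGroup (Fin 12) :=
  sw2 (by decide) (by decide)

/-- inverts `b52` -/
def t52 : Perm (Fin 12) := (swap 0 5 * swap 1 6) * (swap 2 7 * swap 3 8) * (swap 4 9 * swap 10 11)

theorem t52_mem : t52 ∈ alternatingGroup (Fin 12) :=
  mul_mem (mul_mem (sw2 (by decide) (by decide)) (sw2 (by decide) (by decide))) (sw2 (by decide) (by decide))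

/-- automorphism of order four of `b51` -/
def c5 : Perm (Fin 12) := (swap 6 8 * swap 6 9) * (swap 6 7 * swap 10 11)

theorem c5_mem : c5 ∈ alternatingGroup (Fin 12) :=
  mul_mem (sw2 (by decide) (by decide)) (sw2 (by decide) (by decide))

/-- inverts `b51` -/
def t51f : Perm (Fin 15) := (swap 6 9 * swap 7 8)

theorem t51f_mem : t51f ∈ alternatingGroup (Fin 15) :=
  sw2 (by decide) (by decide)

/-- inverts `b52` -/
def t52f : Perm (Fin 15) := (swap 0 5 * swap 1 6) * (swap 2 7 * swap 3 8) * (swap 4 9 * swap 10 11)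

theorem t52f_mem : t52f ∈ alternatingGroup (Fin 15) :=
  mul_mem (mul_mem (sw2 (by decide) (by decide)) (sw2 (by decide) (by decide))) (sw2 (by decide) (by decide))

/-- inverts `b71` -/
def t71t : Perm (Fin 14) := swap 8 13 * swap 9 12 * swap 10 11

/-- inverts `b72` -/
def t72t : Perm (Fin 14) := swap 0 7 * swap 1 8 * swap 2 9 * swap 3 10 * swap 4 11 * swap 5 12 * swap 6 13

/-- automorphism of order six of `b71` -/
def c7t : Perm (Fin 14) := swap 8 12 * swap 8 11 * swap 8 13 * swap 8 9 * swap 8 10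

/-- inverts `b71` -/
def t71 : Perm (Fin 16) := (swap 8 13 * swap 9 12) * (swap 10 11 * swap 14 15)

theorem t71_mem : t71 ∈ alternatingGroup (Fin 16) :=
  mul_mem (sw2 (by decide) (by decide)) (sw2 (by decide) (by decide))

/-- inverts `b72` -/
def t72 : Perm (Fin 16) := (swap 0 7 * swap 1 8) * (swap 2 9 * swap 3 10) * (swap 4 11 * swap 5 12) * (swap 6 13 * swap 14 15)

theorem t72_mem : t72 ∈ alternatingGroup (Fin 16) :=
  mul_mem (mul_mem (mul_mem (sw2 (by decide) (by decide)) (sw2 (by decide) (by decide))) (sw2 (by decide) (by decide))) (sw2 (by decide) (by decide))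

/-- automorphism of order six of `b71` -/
def c7 : Perm (Fin 16) := (swap 8 12 * swap 8 11) * (swap 8 13 * swap 8 9) * (swap 8 10 * swap 14 15)

theorem c7_mem : c7 ∈ alternatingGroup (Fin 16) :=
  mul_mem (mul_mem (sw2 (by decide) (by decide)) (sw2 (by decide) (by decide))) (sw2 (by decide) (by decide))

/-- inverts `b71` -/
def t71f : Perm (Fin 21) := (swap 8 13 * swap 9 12) * (swap 10 11 * swap 14 15)

theorem t71f_mem : t71f ∈ alternatingGroup (Fin 21) :=
  mul_mem (sw2 (by decide) (by decide)) (sw2 (by decide) (by decide))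

/-- inverts `b72` -/
def t72f : Perm (Fin 21) := (swap 0 7 * swap 1 8) * (swap 2 9 * swap 3 10) * (swap 4 11 * swap 5 12) * (swap 6 13 * swap 14 15)

theorem t72f_mem : t72f ∈ alternatingGroup (Fin 21) :=
  mul_mem (mul_mem (mul_mem (sw2 (by decide) (by decide)) (sw2 (by decide) (by decide))) (sw2 (by decide) (by decide))) (sw2 (by decide) (by decide))

/-! ### Weights -/

variable {n : ℕ} {G : Type u} [Group G] {f : G →* Perm (Fin n)} [Finite G] {p : ℕ} [Fact p.Prime] {M : Ideal AlgInt}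

omit [Finite G] in
theorem supp_pow_of_conj {m : ℕ} (h : m ≤ n) {x y : G} {σ τ : Perm (Fin m)} (hx : f x = ext h σ)
    (hy : f y = ext h τ) (k : ℕ) (hc : IsConj x y) : (σ ^ k).support.card = (τ ^ k).support.card := by
  refine supp_of_conj h (x := x ^ k) (y := y ^ k) (by rw [map_pow, hx, map_pow]) (by rw [map_pow, hy, map_pow]) ?_
  obtain ⟨c, hc⟩ := isConj_iff.1 hc
  exact isConj_iff.2 ⟨c, by rw [← conj_pow, hc]⟩

theorem Emb.main (E : Emb n f) (hM : IsPModular p M) (hp2 : p ≠ 2) {m : ℕ} (h : m ≤ n) {k : ℕ}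
    (s : Fin k → Perm (Fin m)) (hs1 : ∀ i, s i ^ p ^ 2 = 1) (hs2 : ∀ i, s i ≠ 1)
    (hs3 : ∀ i j, (s i).support.card = (s j).support.card → (s i ^ p).support.card = (s j ^ p).support.card → i = j)
    (w : Fin k → ℕ) (hw : ∀ i g, f g = ext h (s i) →
      w i ≤ blockRank p (principalBlock M ↥(centralizer ({g} : Set G))))
    (h2 : 2 ≤ blockRank p (principalBlock M G)) (h7 : 5 ≤ ∑ i, w i) : 7 ≤ Nat.card (principalBlock M G) := by
  choose g hg hg1 hgp using fun i => E.exists_pel hp2 h (hs1 i) (hs2 i)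
  have h3 := card_ge hM h2 g hgp hg1 (fun i j hij => hs3 i j (supp_of_conj h (hg i) (hg j) hij)
    (supp_pow_of_conj h (hg i) (hg j) p hij)) w (fun i => hw i _ (hg i))
  omega

theorem ct_prime {m k : ℕ} {x : Perm (Fin m)} (hx : x ^ p = 1) (hx1 : x ≠ 1) (hk : x.support.card = k * p) :
    x.cycleType = Multiset.replicate k p := by
  have hp : p.Prime := Fact.out
  have ho := orderOf_eq_prime hx hx1
  obtain ⟨j, hj⟩ := Perm.cycleType_prime_order (σ := x) (by rw [ho]; exact hp)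
  rw [ho] at hj
  have h1 := Perm.sum_cycleType x
  rw [hj, Multiset.sum_replicate, smul_eq_mul, hk] at h1
  rw [hj, Nat.eq_of_mul_eq_mul_right hp.pos h1]

theorem order_five : 4 ≤ orderOf ((2 : ℕ) : ZMod 5) := by
  have h : orderOf ((2 : ℕ) : ZMod 5) = 4 :=
    (orderOf_eq_iff (by norm_num)).2 ⟨by decide, by intro m hm h0; interval_cases m <;> decide⟩
  rw [h]

theorem order_seven : 6 ≤ orderOf ((3 : ℕ) : ZMod 7) := by
  have h : orderOf ((3 : ℕ) : ZMod 7) = 6 :=
    (orderOf_eq_iff (by norm_num)).2 ⟨by decide, by intro m hm h0; interval_cases m <;> decide⟩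
  rw [h]

/-- `p = 3`, `n ≥ 9` -/
theorem three (E : Emb n f) (hn : 9 ≤ n) (hM : IsPModular 3 M) : 7 ≤ Nat.card (principalBlock M G) := by
  have : Fact (Nat.Prime 3) := ⟨Nat.prime_three⟩
  refine E.main hM (by norm_num) hn ![a31, a32, a33, a39] (by decide +kernel) (by decide +kernel) (by decide +kernel)
    ![2, 2, 1, 1] ?_ (E.two_le_self hM (by norm_num) hn (y := b31) (t := t31) (by decide +kernel) (by decide +kernel)
      (Or.inl t31_mem) (by decide +kernel)) (by decide)
  intro i g hg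
  fin_cases i
  · exact E.two_le hM (by norm_num) hn hg (y := b31) (t := t31) (by decide +kernel) (by decide +kernel)
      (Or.inl t31_mem) (by decide +kernel) (by decide +kernel) (by decide +kernel)
  · exact E.two_le hM (by norm_num) hn hg (y := b32) (t := t32) (by decide +kernel) (by decide +kernel)
      (Or.inl t32_mem) (by decide +kernel) (by decide +kernel) (by decide +kernel)
  · exact H634.Cols.blockRank_pos (G := ↥(centralizer ({g} : Set G))) hM
  · exact H634.Cols.blockRank_pos (G := ↥(centralizer ({g} : Set G))) hM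

/-- `p = 5`, `n ≥ 15` -/
theorem five_large (E : Emb n f) (hn : 15 ≤ n) (hM : IsPModular 5 M) : 7 ≤ Nat.card (principalBlock M G) := by
  have : Fact (Nat.Prime 5) := ⟨Nat.prime_five⟩
  refine E.main hM (by norm_num) hn ![a51f, a52f, a53f] (by decide +kernel) (by decide +kernel) (by decide +kernel)
    ![2, 2, 1] ?_ (E.two_le_self hM (by norm_num) hn (y := b51f) (t := t51f) (by decide +kernel) (by decide +kernel)
      (Or.inl t51f_mem) (by decide +kernel)) (by decide)
  intro i g hg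
  fin_cases i
  · exact E.two_le hM (by norm_num) hn hg (y := b51f) (t := t51f) (by decide +kernel) (by decide +kernel)
      (Or.inl t51f_mem) (by decide +kernel) (by decide +kernel) (by decide +kernel)
  · exact E.two_le hM (by norm_num) hn hg (y := b52f) (t := t52f) (by decide +kernel) (by decide +kernel)
      (Or.inl t52f_mem) (by decide +kernel) (by decide +kernel) (by decide +kernel)
  · exact H634.Cols.blockRank_pos (G := ↥(centralizer ({g} : Set G))) hM

/-- `p = 5`, `12 ≤ n ≤ 14` -/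
theorem five_mid (E : Emb n f) (hn : 12 ≤ n) (hn' : n ≤ 14) (hM : IsPModular 5 M) :
    7 ≤ Nat.card (principalBlock M G) := by
  have : Fact (Nat.Prime 5) := ⟨Nat.prime_five⟩
  refine E.main hM (by norm_num) hn ![a51, a52] (by decide +kernel) (by decide +kernel) (by decide +kernel)
    ![4, 2] ?_ (E.two_le_self hM (by norm_num) hn (y := b51) (t := t51) (by decide +kernel) (by decide +kernel)
      (Or.inl t51_mem) (by decide +kernel)) (by decide)
  intro i g hg
  fin_cases i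
  · refine order_five.trans (E.rank_cyc hM hn (by omega) ?_ hg (ct_prime (k := 1) (by decide +kernel) (by decide +kernel)
      (by decide +kernel)) (y := b51) (c := c5) (by decide +kernel) (by norm_num) (Or.inl c5_mem) (by decide +kernel)
      (by decide +kernel) (by decide +kernel) (by decide +kernel))
    interval_cases n <;> decide
  · exact E.two_le hM (by norm_num) hn hg (y := b52) (t := t52) (by decide +kernel) (by decide +kernel)
      (Or.inl t52_mem) (by decide +kernel) (by decide +kernel) (by decide +kernel)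

/-- `p = 5`, `10 ≤ n ≤ 14`, the symmetric group -/
theorem five_sym (E : Emb n f) (hf : Function.Surjective f) (hn : 10 ≤ n) (hn' : n ≤ 14) (hM : IsPModular 5 M) :
    7 ≤ Nat.card (principalBlock M G) := by
  have : Fact (Nat.Prime 5) := ⟨Nat.prime_five⟩
  refine E.main hM (by norm_num) hn ![a51t, a52t] (by decide +kernel) (by decide +kernel) (by decide +kernel)
    ![4, 2] ?_ (E.two_le_self hM (by norm_num) hn (y := b51t) (t := t51t) (by decide +kernel) (by decide +kernel)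
      (Or.inl t51t_mem) (by decide +kernel)) (by decide)
  intro i g hg
  fin_cases i
  · refine order_five.trans (E.rank_cyc hM hn (by omega) ?_ hg (ct_prime (k := 1) (by decide +kernel) (by decide +kernel)
      (by decide +kernel)) (y := b51t) (c := c5t) (by decide +kernel) (by norm_num) (Or.inr hf) (by decide +kernel)
      (by decide +kernel) (by decide +kernel) (by decide +kernel))
    interval_cases n <;> decide
  · exact E.two_le hM (by norm_num) hn hg (y := b52t) (t := t52t) (by decide +kernel) (by decide +kernel)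
      (Or.inr hf) (by decide +kernel) (by decide +kernel) (by decide +kernel)

/-- `p = 7`, `n ≥ 21` -/
theorem seven_large (E : Emb n f) (hn : 21 ≤ n) (hM : IsPModular 7 M) : 7 ≤ Nat.card (principalBlock M G) := by
  have : Fact (Nat.Prime 7) := ⟨by norm_num⟩
  refine E.main hM (by norm_num) hn ![a71f, a72f, a73f] (by decide +kernel) (by decide +kernel) (by decide +kernel)
    ![2, 2, 1] ?_ (E.two_le_self hM (by norm_num) hn (y := b71f) (t := t71f) (by decide +kernel) (by decide +kernel)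
      (Or.inl t71f_mem) (by decide +kernel)) (by decide)
  intro i g hg
  fin_cases i
  · exact E.two_le hM (by norm_num) hn hg (y := b71f) (t := t71f) (by decide +kernel) (by decide +kernel)
      (Or.inl t71f_mem) (by decide +kernel) (by decide +kernel) (by decide +kernel)
  · exact E.two_le hM (by norm_num) hn hg (y := b72f) (t := t72f) (by decide +kernel) (by decide +kernel)
      (Or.inl t72f_mem) (by decide +kernel) (by decide +kernel) (by decide +kernel)
  · exact H634.Cols.blockRank_pos (G := ↥(centralizer ({g} : Set G))) hM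

/-- `p = 7`, `16 ≤ n ≤ 20` -/
theorem seven_mid (E : Emb n f) (hn : 16 ≤ n) (hn' : n ≤ 20) (hM : IsPModular 7 M) :
    7 ≤ Nat.card (principalBlock M G) := by
  have : Fact (Nat.Prime 7) := ⟨by norm_num⟩
  refine E.main hM (by norm_num) hn ![a71, a72] (by decide +kernel) (by decide +kernel) (by decide +kernel)
    ![6, 2] ?_ (E.two_le_self hM (by norm_num) hn (y := b71) (t := t71) (by decide +kernel) (by decide +kernel)
      (Or.inl t71_mem) (by decide +kernel)) (by decide)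
  intro i g hg
  fin_cases i
  · refine order_seven.trans (E.rank_cyc hM hn (by omega) ?_ hg (ct_prime (k := 1) (by decide +kernel)
      (by decide +kernel) (by decide +kernel)) (y := b71) (c := c7) (by decide +kernel) (by norm_num) (Or.inl c7_mem)
      (by decide +kernel) (by decide +kernel) (by decide +kernel) (by decide +kernel))
    interval_cases n <;> decide
  · exact E.two_le hM (by norm_num) hn hg (y := b72) (t := t72) (by decide +kernel) (by decide +kernel)
      (Or.inl t72_mem) (by decide +kernel) (by decide +kernel) (by decide +kernel)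

/-- `p = 7`, `14 ≤ n ≤ 20`, the symmetric group -/
theorem seven_sym (E : Emb n f) (hf : Function.Surjective f) (hn : 14 ≤ n) (hn' : n ≤ 20) (hM : IsPModular 7 M) :
    7 ≤ Nat.card (principalBlock M G) := by
  have : Fact (Nat.Prime 7) := ⟨by norm_num⟩
  refine E.main hM (by norm_num) hn ![a71t, a72t] (by decide +kernel) (by decide +kernel) (by decide +kernel)
    ![6, 2] ?_ (E.two_le_self hM (by norm_num) hn (y := b71t) (t := t71t) (by decide +kernel) (by decide +kernel)
      (Or.inr hf) (by decide +kernel)) (by decide)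
  intro i g hg
  fin_cases i
  · refine order_seven.trans (E.rank_cyc hM hn (by omega) ?_ hg (ct_prime (k := 1) (by decide +kernel)
      (by decide +kernel) (by decide +kernel)) (y := b71t) (c := c7t) (by decide +kernel) (by norm_num) (Or.inr hf)
      (by decide +kernel) (by decide +kernel) (by decide +kernel) (by decide +kernel))
    interval_cases n <;> decide
  · exact E.two_le hM (by norm_num) hn hg (y := b72t) (t := t72t) (by decide +kernel) (by decide +kernel)
      (Or.inr hf) (by decide +kernel) (by decide +kernel) (by decide +kernel)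

end Cfsg.Agent.H600.KSix
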